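import Cfsg.Agent.H153.Dl.RFi24
import Cfsg.Agent.H153.Dl.K24.O3_m3
import Cfsg.Agent.Lib.ListFast
import Cfsg.Agent.H153.Dl.K24.E0
import Cfsg.Agent.H153.Dl.K24.E2
import Cfsg.Agent.H153.Dl.K24.E3
import Cfsg.Agent.H153.Dl.K24.O0
import Cfsg.Agent.H153.Dl.K24.O1
import Cfsg.Agent.H153.Dl.K24.O2
import Cfsg.Agent.H843.One
import Cfsg.Agent.FastGrp
import Cfsg.Agent.Prune
set_option linter.all false

-- part: H153/Dl/K24/E1
section
set_option linter.all false

/-!
# `Fi24` : numbers of fixed points of words, table E1 (helper153)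

Generated data and kernel checks: `(w, f₁, f₂)` with `f₁`, `f₂` the numbers of fixed points of `w` and `w²`.
-/

set_option autoImplicit false
set_option maxRecDepth 100000
set_option Elab.async false

namespace Cfsg.Agent.H153.Dl.K24

open Cfsg Cfsg.Agent.H153.Dl Cfsg.Agent.H153.Dl.PR
open Cfsg.Spor.Fi24 (Gen)

private noncomputable def _root_.Cfsg.Agent.LsF.f9a2781_0 : {f // @Cfsg.Agent.H153.Dl.PR.chk = f} := ⟨_, by first | (delta Cfsg.Agent.H153.Dl.PR.chk; rewrite [Cfsg.Agent.LsF.and_eq, Cfsg.Agent.LsF.instAppend_eq]; exact rfl) | exact rfl⟩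
section
open Cfsg.Agent.Lib.PermNet Cfsg.Agent.Lib.PermNetFix Cfsg.Agent.Fischer.Fi24RepDef Cfsg.Agent.Fischer.Fi24Rep
open Cfsg.Agent.Fischer.Fi24RepOrb (UG)

/-- Do the two generators commute? -/
private def cmB (x y : Gen) : Bool :=
  Bool.rec (Bool.rec true (Bool.rec true false (adj y x)) (fst y)) (Bool.rec (Bool.rec true false (adj x y)) true (fst y)) (fst x)

private theorem cmB_spec {x y : Gen} (h : cmB x y = true) : rho0 x * rho0 y = rho0 y * rho0 x := by
  have key : fst x = fst y ∨ (fst x = true ∧ fst y = false ∧ adj x y = false) ∨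
      (fst y = true ∧ fst x = false ∧ adj y x = false) := by
    revert h; cases x <;> cases y <;> decide
  rcases key with h | ⟨h1, h2, h3⟩ | ⟨h1, h2, h3⟩
  · exact rho0_comm_same h
  · exact rho0_comm_mixed h1 h2 h3
  · exact (rho0_comm_mixed h1 h2 h3).symm

private theorem prd_cons' (x : Gen) (l : List Gen) : prd (x :: l) = rho0 x * prd l := List.prod_cons

private theorem prd_app' (u v : List Gen) : prd (u ++ v) = prd u * prd v := by
  induction u with
  | nil => exact (one_mul _).symm
  | cons a u ih => exact (prd_cons' a _).trans ((congrArg (fun t => rho0 a * t) ih).trans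
      ((mul_assoc _ _ _).symm.trans (congrArg (fun t => t * prd v) (prd_cons' a u).symm)))

/-- The first `x` of the word is moved to the front and removed. -/
private noncomputable def pullG (x : Gen) (v : List Gen) : (List Gen → Bool) → Bool :=
  List.rec (motive := fun _ => (List Gen → Bool) → Bool) (fun _ => false)
    (fun y v ih k => Bool.rec (Bool.rec false (ih fun v' => k (y :: v')) (cmB x y)) (k v) (decide (y = x))) v

private theorem pullG_spec (x : Gen) : ∀ (v : List Gen) (k : List Gen → Bool), pullG x v k = true →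
    ∃ v', k v' = true ∧ prd v = rho0 x * prd v'
  | [], _, h => Bool.noConfusion h
  | y :: v, k, h => by
    replace h : (Bool.rec (Bool.rec false (pullG x v fun v' => k (y :: v')) (cmB x y)) (k v) (decide (y = x)) : Bool) = true := h
    cases h1 : decide (y = x) with
    | true =>
      rw [h1] at h
      exact ⟨v, h, of_decide_eq_true h1 ▸ prd_cons' y v⟩
    | false =>
      rw [h1] at h
      cases h2 : cmB x y with
      | false => rw [h2] at h; exact Bool.noConfusion h
      | true =>
        rw [h2] at h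
        obtain ⟨v', h3, h4⟩ := pullG_spec x v _ h
        refine ⟨y :: v', h3, ?_⟩
        rw [prd_cons', prd_cons', h4, ← mul_assoc, ← mul_assoc, cmB_spec h2]

/-- Equality of words up to commuting letters. -/
private noncomputable def eqT (u : List Gen) : List Gen → Bool :=
  List.rec (motive := fun _ => List Gen → Bool) (fun v => List.rec true (fun _ _ _ => false) v)
    (fun x _ ih v => pullG x v ih) u

private theorem eqT_spec : ∀ u v : List Gen, eqT u v = true → prd u = prd v
  | [], [], _ => rfl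
  | [], _ :: _, h => Bool.noConfusion h
  | x :: u, v, h => by
    obtain ⟨v', h1, h2⟩ := pullG_spec x v (eqT u) h
    rw [prd_cons', h2, eqT_spec u v' h1]

private theorem rw_prd (l : List Gen) : R24.rho (R24.word l) = prd l := (rho_word l).trans (prd_eq l)

/-- The moved points, on the planes cut down to the points which are counted. -/
private noncomputable def mvU (w : List Net) (m : ℕ) : ℕ :=
  Nat.rec (motive := fun _ => ℕ) 0 (fun b ih => seq (Nat.land (plane 19 b) UG) fun P =>
    seq (appWord w P) fun x => Nat.lor (Nat.xor x P) ih) m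

private theorem mvU_bit (l : List Gen) {p : ℕ} (hp : UG.testBit p = true) : ∀ m : ℕ,
    (mvU (nw l false) m).testBit p = (movedAux 19 (nw l false) m).testBit p
  | 0 => rfl
  | m + 1 => by
    have e : mvU (nw l false) (m + 1) = (appWord (nw l false) (plane 19 m &&& UG) ^^^ (plane 19 m &&& UG)) ||| mvU (nw l false) m :=
      (seq_eq (Nat.land (plane 19 m) UG) fun P => seq (appWord (nw l false) P) fun x => Nat.lor (Nat.xor x P) (mvU (nw l false) m)).trans
        (seq_eq (appWord (nw l false) (plane 19 m &&& UG)) fun x => Nat.lor (Nat.xor x (plane 19 m &&& UG)) (mvU (nw l false) m))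
    have hq : UG.testBit (wperm (nw l false) p) = true := by
      rw [← rho_word]; exact cnt24.inv _ p hp
    rw [e, movedAux_succ, Nat.testBit_or, Nat.testBit_or, mvU_bit l hp m, Nat.testBit_xor, Nat.testBit_xor,
      testBit_appWord (wok l false), testBit_appWord (wok l false), Nat.testBit_and, Nat.testBit_and, hp, hq,
      Bool.and_true, Bool.and_true]

private noncomputable def cntU (l : List Gen) : ℕ :=
  Lib.PermNetOrbit.pc 19 (seq (mvU (nw l false) 19) fun x => Nat.xor UG (Nat.land UG x))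

private theorem cntU_eq (l : List Gen) : cntU l = R24.Fx (R24.word l) := by
  have e : UG &&& mvU (nw l false) 19 = UG &&& moved 19 (nw l false) := by
    apply Nat.eq_of_testBit_eq
    intro p
    rw [Nat.testBit_and, Nat.testBit_and]
    cases hp : UG.testBit p with
    | false => rw [Bool.false_and, Bool.false_and]
    | true => exact congrArg (fun t => true && t) (mvU_bit l hp 19)
  have e1 : (seq (mvU (nw l false) 19) fun x => Nat.xor UG (Nat.land UG x)) = UG ^^^ (UG &&& mvU (nw l false) 19) :=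
    seq_eq (mvU (nw l false) 19) fun x => Nat.xor UG (Nat.land UG x)
  have e2 : fxm R24 19 l = UG ^^^ (UG &&& moved 19 (nw l false)) := fxm_eq (R := R24) (k := 19) l
  have e3 : (seq (mvU (nw l false) 19) fun x => Nat.xor UG (Nat.land UG x)) = fxm R24 19 l := by rw [e1, e2, e]
  delta cntU
  rw [e3]
  exact (Fx_word cnt24 l).symm

private theorem Fx_of {l l' c : List Gen} (h : prd l * prd c = prd c * prd l') : R24.Fx (R24.word l) = R24.Fx (R24.word l') := by
  refine Eq.trans ?_ (Fx_conj cnt24 (R24.word c) (R24.word l'))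
  refine congrArg (fun s : Equiv.Perm ℕ => {p : ℕ | R24.U.testBit p = true ∧ s p = p}.ncard)
    (show R24.rho (R24.word l) = R24.rho (R24.word c * R24.word l' * (R24.word c)⁻¹) from ?_)
  rw [R24.rho.map_mul, R24.rho.map_mul, R24.rho.map_inv, rw_prd, rw_prd, rw_prd, ← h, mul_inv_cancel_right]

/-- The numbers are those of a conjugate word with fewer changes of the numbering. -/
private theorem chk_of {l : List Gen} {f g : ℕ} (l₀ c l' : List Gen) (h₀ : prd l = prd l₀)
    (h : Bool.rec false (Bool.rec false (Nat.beq (cntU (l' ++ l')) g) (Nat.beq (cntU l') f)) (eqT (l₀ ++ c) (c ++ l')) = true) :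
    chk R24 19 (l, f, g) = true := by
  cases h1 : eqT (l₀ ++ c) (c ++ l') with
  | false => rw [h1] at h; exact Bool.noConfusion h
  | true =>
    rw [h1] at h
    cases h2 : Nat.beq (cntU l') f with
    | false => rw [h2] at h; exact Bool.noConfusion h
    | true =>
      rw [h2] at h
      have h3 : prd l * prd c = prd c * prd l' := by
        rw [h₀, ← prd_app', ← prd_app']
        exact eqT_spec _ _ h1
      have h4 : prd (l ++ l) * prd c = prd c * prd (l' ++ l') := by
        rw [prd_app', prd_app', mul_assoc, h3, ← mul_assoc, h3, mul_assoc]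
      have e1 : Lib.PermNetOrbit.pc 19 (fxm R24 19 l) = cntU l' :=
        (Fx_word cnt24 l).symm.trans ((Fx_of h3).trans (cntU_eq l').symm)
      have e2 : Lib.PermNetOrbit.pc 19 (fxm R24 19 (l ++ l)) = cntU (l' ++ l') :=
        (Fx_word cnt24 (l ++ l)).symm.trans ((Fx_of h4).trans (cntU_eq (l' ++ l')).symm)
      exact Bool.and_eq_true_iff.2 ⟨(congrArg (fun t => Nat.beq t f) e1).trans h2, (congrArg (fun t => Nat.beq t g) e2).trans h⟩

private theorem braid' (u v : List Gen) {x y : Gen} (hx : fst x = true) (hy : fst y = false) (h : adj x y = true) :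
    prd (u ++ y :: x :: y :: v) = prd (u ++ x :: y :: x :: v) := by
  induction u with
  | nil =>
    show prd (y :: x :: y :: v) = prd (x :: y :: x :: v)
    rw [prd_cons', prd_cons', prd_cons', prd_cons', prd_cons', prd_cons', ← mul_assoc, ← mul_assoc, ← rho0_braid_mixed hx hy h,
      mul_assoc, mul_assoc]
  | cons a u ih => exact (prd_cons' a _).trans ((congrArg (fun t => rho0 a * t) ih).trans (prd_cons' a _).symm)

end

theorem E1_0 : chk R24 19 ([.h, .i, .d, .e], 36, 36) = true :=
  chk_of [.h, .i, .d, .e] [] [.h, .d, .i, .e] rfl (by decide +kernel)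

theorem E1_1 : chk R24 19 ([.g, .b, .d, .c], 64, 3512) = true :=
  chk_of [.g, .b, .d, .c] [] [.b, .d, .c, .g] rfl (by decide +kernel)

theorem E1_2 : chk R24 19 ([.e, .j, .d, .i, .c, .b], 12, 36) = true :=
  chk_of [.e, .j, .d, .i, .c, .b] [.e, .d] [.c, .e, .b, .d, .i, .j] rfl (by decide +kernel)

theorem E1_3 : chk R24 19 ([.d, .h, .j, .k, .l, .g], 162, 162) = true :=
  chk_of [.d, .h, .j, .k, .l, .g] [] [.d, .j, .k, .h, .g, .l] rfl (by decide +kernel)

theorem E1_4 : chk R24 19 ([.c, .f, .g, .e, .a, .b], 120, 504) = true :=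
  chk_of [.c, .f, .g, .e, .a, .b] [] [.a, .c, .b, .f, .e, .g] rfl (by decide +kernel)

theorem E1_5 : chk R24 19 ([.c, .b, .f, .j, .e, .a, .d, .g], 6, 6) = true :=
  chk_of [.c, .b, .f, .j, .e, .a, .d, .g] [.f, .j] [.c, .e, .g, .b, .d, .f, .j, .a] rfl (by decide +kernel)

theorem E1_6 : chk R24 19 ([.f, .d, .b, .j, .l, .h, .c, .e], 2, 18) = true :=
  chk_of [.f, .d, .b, .j, .l, .h, .c, .e] [] [.b, .d, .f, .j, .c, .e, .h, .l] rfl (by decide +kernel)

theorem E1_7 : chk R24 19 ([.g, .d, .c, .b, .h, .k, .e, .a], 4, 38) = true :=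
  chk_of [.g, .d, .c, .b, .h, .k, .e, .a] [.d] [.c, .e, .g, .h, .b, .d, .k, .a] rfl (by decide +kernel)

theorem E1_8 : chk R24 19 ([.i, .d, .e, .b, .d, .h, .d, .c], 45, 45) = true :=
  chk_of [.i, .d, .e, .b, .h, .d, .h, .c] [] [.b, .d, .i, .e, .h, .d, .c, .h] (braid' [.i, .d, .e, .b] [.c] (x := .h) (y := .d) rfl rfl rfl) (by decide +kernel)

theorem E1_9 : chk R24 19 ([.k, .l, .e, .c, .g, .a, .i, .f], 8, 504) = true :=
  chk_of [.k, .l, .e, .c, .g, .a, .i, .f] [] [.c, .e, .g, .f, .i, .k, .a, .l] rfl (by decide +kernel)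

theorem E1_10 : chk R24 19 ([.c, .a, .b, .d, .h, .l, .g, .f, .j, .e], 1, 1) = true :=
  chk_of [.c, .a, .b, .d, .h, .l, .g, .f, .j, .e] [] [.a, .c, .g, .l, .b, .d, .f, .j, .e, .h] rfl (by decide +kernel)

theorem E1_11 : chk R24 19 ([.i, .e, .a, .g, .d, .f, .b, .k, .j, .h], 0, 8) = true :=
  chk_of [.i, .e, .a, .g, .d, .f, .b, .k, .j, .h] [] [.a, .e, .g, .b, .d, .f, .i, .j, .k, .h] rfl (by decide +kernel)

/-- The table. -/
def E1 : List (List Gen × ℕ × ℕ) := [([.h, .i, .d, .e], 36, 36),
  ([.g, .b, .d, .c], 64, 3512),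
  ([.e, .j, .d, .i, .c, .b], 12, 36),
  ([.d, .h, .j, .k, .l, .g], 162, 162),
  ([.c, .f, .g, .e, .a, .b], 120, 504),
  ([.c, .b, .f, .j, .e, .a, .d, .g], 6, 6),
  ([.f, .d, .b, .j, .l, .h, .c, .e], 2, 18),
  ([.g, .d, .c, .b, .h, .k, .e, .a], 4, 38),
  ([.i, .d, .e, .b, .d, .h, .d, .c], 45, 45),
  ([.k, .l, .e, .c, .g, .a, .i, .f], 8, 504),
  ([.c, .a, .b, .d, .h, .l, .g, .f, .j, .e], 1, 1),
  ([.i, .e, .a, .g, .d, .f, .b, .k, .j, .h], 0, 8)]

theorem E1_ok : ∀ q ∈ E1, chk R24 19 q = true :=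
  List.forall_mem_cons.2 ⟨E1_0, (List.forall_mem_cons.2 ⟨E1_1, (List.forall_mem_cons.2 ⟨E1_2, (List.forall_mem_cons.2 ⟨E1_3, (List.forall_mem_cons.2 ⟨E1_4, (List.forall_mem_cons.2 ⟨E1_5, (List.forall_mem_cons.2 ⟨E1_6, (List.forall_mem_cons.2 ⟨E1_7, (List.forall_mem_cons.2 ⟨E1_8, (List.forall_mem_cons.2 ⟨E1_9, (List.forall_mem_cons.2 ⟨E1_10, (List.forall_mem_cons.2 ⟨E1_11, (fun _ h => absurd h (by simp))⟩)⟩)⟩)⟩)⟩)⟩)⟩)⟩)⟩)⟩)⟩)⟩

end Cfsg.Agent.H153.Dl.K24
end

-- part: H153/Dl/K24
section
set_option linter.all false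
open scoped Cfsg.Agent.FastGrp

/-!
# The numbers of classes of `Fi24` and `Fi24'` (helper153)

* `le_k` : `Fi24` has at least 94 classes;
* `le_k'` : `Fi24'` has at least 48 classes.
-/

set_option autoImplicit false
set_option maxRecDepth 100000

namespace Cfsg.Agent.H153.Dl.K24

open Cfsg Cfsg.Agent.H153.Dl Cfsg.Agent.H153.Dl.PR
open Cfsg.Spor (Fi24)
open Cfsg.Spor.Fi24 (Gen)
open Cfsg.Agent.R08.FiTwentyFour (index_commutator)

theorem word_mem' (l : List Gen) : Fischer.Fi24Rep.word l ∈ commutator Fi24 ↔ Even l.length := by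
  induction l with
  | nil =>
    rw [Fischer.Fi24Spider.word_nil]
    exact ⟨fun _ => by simp, fun _ => one_mem _⟩
  | cons c l ih =>
    have hc : Fischer.Fi24Rep.gen c ∉ commutator Fi24 :=
      Cfsg.Agent.R08.FiTwentyFour.odd (Cfsg.Agent.R08.FiTwentyFour.gen_mem_L c)
    rw [Fischer.Fi24Spider.word_cons, Subgroup.mul_mem_iff_of_index_two index_commutator, ih, List.length_cons,
      Nat.even_add_one]
    tauto

theorem word_mem (l : List Gen) : R24.word l ∈ commutator Fi24 ↔ Even l.length := word_mem' l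

/-- the even words -/
def tE : List (List Gen × ℕ × ℕ) := E0 ++ (E1 ++ (E2 ++ E3))

/-- the odd words -/
def tO : List (List Gen × ℕ × ℕ) := O0 ++ (O1 ++ (O2 ++ O3))

theorem tE_ok : ∀ q ∈ tE, chk R24 19 q = true :=
  List.forall_mem_append.2 ⟨E0_ok, List.forall_mem_append.2 ⟨E1_ok, List.forall_mem_append.2 ⟨E2_ok, E3_ok⟩⟩⟩

theorem tO_ok : ∀ q ∈ tO, chk R24 19 q = true :=
  List.forall_mem_append.2 ⟨O0_ok, List.forall_mem_append.2 ⟨O1_ok, List.forall_mem_append.2 ⟨O2_ok, O3_ok⟩⟩⟩

theorem t_ok : ∀ q ∈ tE ++ tO, chk R24 19 q = true := List.forall_mem_append.2 ⟨tE_ok, tO_ok⟩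

theorem t_nodup : ((tE ++ tO).map fun q => (q.1.length % 2, q.2)).Nodup := by decide +kernel

theorem tE_nodup : (tE.map fun q => q.2).Nodup := by decide +kernel

theorem tE_even : ∀ q ∈ tE, q.1.length % 2 = 0 := by decide +kernel

open Classical in
/-- the parity -/
noncomputable def par (g : Fi24) : ℕ := if g ∈ commutator Fi24 then 0 else 1

theorem par_word (l : List Gen) : par (R24.word l) = l.length % 2 := by
  unfold par
  split_ifs with h
  · exact (Nat.even_iff.1 ((word_mem l).1 h)).symm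
  · exact (Nat.odd_iff.1 (Nat.not_even_iff_odd.1 fun h' => h ((word_mem l).2 h'))).symm

theorem par_isConj {g h : Fi24} (hc : IsConj g h) : par g = par h := by
  obtain ⟨c, rfl⟩ := isConj_iff.1 hc
  have e : g ∈ commutator Fi24 ↔ c * g * c⁻¹ ∈ commutator Fi24 :=
    ⟨fun h1 => Subgroup.Normal.conj_mem inferInstance g h1 c, fun h1 => by
      have h2 := Subgroup.Normal.conj_mem (inferInstance : (commutator Fi24).Normal) _ h1 c⁻¹
      have e2 : c⁻¹ * (c * g * c⁻¹) * c⁻¹⁻¹ = g := by group
      rwa [e2] at h2⟩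
  unfold par
  by_cases h1 : g ∈ commutator Fi24
  · rw [if_pos h1, if_pos (e.1 h1)]
  · rw [if_neg h1, if_neg fun h2 => h1 (e.2 h2)]

theorem length_t : (tE ++ tO).length = 94 := by decide +kernel

theorem length_tE : tE.length = 48 := by decide +kernel

/-- **`Fi24` has at least 94 classes.** -/
theorem le_k [Finite Fi24] : 94 ≤ Nat.card (ConjClasses Fi24) := by
  have h1 := card_le_of_sig (fun g : Fi24 => (par g, R24.Fx g, R24.Fx (g * g)))
    (fun g h hc => by
      have h2 : R24.Fx (g * g) = R24.Fx (h * h) := by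
        rw [← pow_two, ← pow_two]; exact Fx_pow_isConj cnt24 hc 2
      rw [par_isConj hc, Fx_isConj cnt24 hc, h2])
    ((tE ++ tO).map fun q => R24.word q.1)
    (by
      rw [List.map_map]
      have h3 : (tE ++ tO).map ((fun g : Fi24 => (par g, R24.Fx g, R24.Fx (g * g))) ∘ fun q => R24.word q.1) =
          (tE ++ tO).map fun q => (q.1.length % 2, q.2) := by
        refine List.map_congr_left fun q hq => ?_
        obtain ⟨h4, h5⟩ := chk_spec cnt24 (t_ok q hq)
        show (par (R24.word q.1), R24.Fx (R24.word q.1), R24.Fx (R24.word q.1 * R24.word q.1)) = _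
        rw [par_word, h4, h5]
      exact h3.symm ▸ t_nodup)
  rwa [List.length_map, length_t] at h1

open Classical in
/-- an even word as an element of `Fi24'` -/
noncomputable def w' (l : List Gen) : Spor.Fi24' := if h : R24.word l ∈ commutator Fi24 then ⟨R24.word l, h⟩ else 1

theorem coe_w' {l : List Gen} (h : l.length % 2 = 0) : ((w' l : Spor.Fi24') : Fi24) = R24.word l := by
  unfold w'
  rw [dif_pos ((word_mem l).2 (Nat.even_iff.2 h))]

/-- **`Fi24'` has at least 48 classes.** -/
theorem le_k' [Finite Spor.Fi24'] : 48 ≤ Nat.card (ConjClasses Spor.Fi24') := by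
  have h1 := card_le_of_sig (fun g : Spor.Fi24' => (R24.Fx (g : Fi24), R24.Fx ((g : Fi24) * (g : Fi24))))
    (fun g h hc => by
      have h0 : IsConj (g : Fi24) (h : Fi24) := by
        obtain ⟨c, hc⟩ := isConj_iff.1 hc
        exact isConj_iff.2 ⟨c, congrArg Subtype.val hc⟩
      have h2 : R24.Fx ((g : Fi24) * g) = R24.Fx ((h : Fi24) * h) := by
        rw [← pow_two, ← pow_two]; exact Fx_pow_isConj cnt24 h0 2
      rw [Fx_isConj cnt24 h0, h2])
    (tE.map fun q => w' q.1)
    (by
      rw [List.map_map]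
      have h3 : tE.map ((fun g : Spor.Fi24' => (R24.Fx (g : Fi24), R24.Fx ((g : Fi24) * (g : Fi24)))) ∘ fun q => w' q.1) =
          tE.map fun q => q.2 := by
        refine List.map_congr_left fun q hq => ?_
        obtain ⟨h4, h5⟩ := chk_spec cnt24 (tE_ok q hq)
        show (R24.Fx ((w' q.1 : Spor.Fi24') : Fi24), R24.Fx (((w' q.1 : Spor.Fi24') : Fi24) * ((w' q.1 : Spor.Fi24') : Fi24))) = _
        rw [coe_w' (tE_even q hq), h4, h5]
      exact h3.symm ▸ tE_nodup)
  rwa [List.length_map, length_tE] at h1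

end Cfsg.Agent.H153.Dl.K24
end
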